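import Cfsg.Agent.Lib.CosetEnum.Y5Full.DefsPart0
import Cfsg.Agent.Lib.CosetEnum.Y5Full.DefsPart1
import Cfsg.Agent.Lib.CosetEnum.Y5Full.DefsPart2
import Cfsg.Agent.Lib.CosetEnum.Y5Full.DefsPart3
import Cfsg.Agent.Lib.CosetEnum.Y5Full.StepsPart0
import Cfsg.Agent.Lib.CosetEnum.Y5Full.StepsPart1
import Cfsg.Agent.Lib.CosetEnum.Y5Full.StepsPart2
import Cfsg.Agent.Lib.CosetEnum.Y5Full.StepsPart3
import Cfsg.Agent.Lib.CosetEnum.Y5Full.StepsPart4
import Cfsg.Agent.Lib.CosetEnum.Y5Full.StepsPart5
import Cfsg.Agent.Lib.CosetEnum.Y5Full.StepsPart6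
import Cfsg.Agent.Lib.CosetEnum.Y5Full.StepsPart7
import Cfsg.Agent.Lib.CosetEnum.Y5Full.StepsPart8
import Cfsg.Agent.Lib.CosetEnum.Y5Full.StepsPart9
import Cfsg.Agent.Lib.CosetEnum.Y5Full.StepsPart10
import Cfsg.Agent.Lib.CosetEnum.Y5Full.StepsPart11
import Cfsg.Agent.Lib.CosetEnum.Y5Full.StepsPart12
import Cfsg.Agent.Lib.CosetEnum.Y5Full.StepsPart13
import Cfsg.Agent.Lib.CosetEnum.Y5Full.StepsPart14
import Cfsg.Agent.Lib.CosetEnum.Y5Full.StepsPart15
import Cfsg.Agent.Lib.CosetEnum.Y5Full.StepsPart16
import Cfsg.Agent.Lib.CosetEnum.Y5Full.StepsPart17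
import Cfsg.Agent.Lib.CosetEnum.Y5Full.StepsPart18
import Cfsg.Agent.Lib.CosetEnum.Y5Full.StepsPart19
import Cfsg.Agent.Lib.CosetEnum.Y5Full.StepsPart20
import Cfsg.Agent.Lib.CosetEnum.Y5Full.StepsPart21
import Cfsg.Agent.Lib.CosetEnum.Y5Full.StepsPart22
import Cfsg.Agent.Lib.CosetEnum.Y5Full.StepsPart23
import Cfsg.Agent.Lib.CosetEnum.Y5Full.StepsPart24
import Cfsg.Agent.Lib.CosetEnum.Y5Full.StepsPart25
import Cfsg.Agent.Lib.CosetEnum.Y5Full.ClosedPart0

/-! Generated certificate. -/

set_option autoImplicit false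
set_option maxRecDepth 20000

namespace Cfsg.Lib.CosetEnum.Y5Full

theorem step_valid {R0 : List (List Nat)} (h : shiftsOK R0 relWords = true) : step.Valid R0 where
  pos := by decide +kernel
  shifts := h
  defs := (defsOK_append (a := 28000) (b := 29631) (defsOK_append (a := 12000) (b := 16000) (defsOK_append (a := 4000) (b := 8000) defs_0 (defsOK_append (a := 4000) (b := 4000) defs_1 defs_2)) (defsOK_append (a := 8000) (b := 8000) (defsOK_append (a := 4000) (b := 4000) defs_3 defs_4) (defsOK_append (a := 4000) (b := 4000) defs_5 defs_6))) (defsOK_append (a := 16000) (b := 13631) (defsOK_append (a := 8000) (b := 8000) (defsOK_append (a := 4000) (b := 4000) defs_7 defs_8) (defsOK_append (a := 4000) (b := 4000) defs_9 defs_10)) (defsOK_append (a := 8000) (b := 5631) (defsOK_append (a := 4000) (b := 4000) defs_11 defs_12) (defsOK_append (a := 4000) (b := 1631) defs_13 defs_14))))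
  steps := (stepsOK_append (m := 37500) (n := 38439) (stepsOK_append (m := 18000) (n := 19500) (stepsOK_append (m := 9000) (n := 9000) (stepsOK_append (m := 4500) (n := 4500) (stepsOK_append (m := 1500) (n := 3000) steps_0 (stepsOK_append (m := 1500) (n := 1500) steps_1 steps_2)) (stepsOK_append (m := 1500) (n := 3000) steps_3 (stepsOK_append (m := 1500) (n := 1500) steps_4 steps_5))) (stepsOK_append (m := 4500) (n := 4500) (stepsOK_append (m := 1500) (n := 3000) steps_6 (stepsOK_append (m := 1500) (n := 1500) steps_7 steps_8)) (stepsOK_append (m := 1500) (n := 3000) steps_9 (stepsOK_append (m := 1500) (n := 1500) steps_10 steps_11)))) (stepsOK_append (m := 9000) (n := 10500) (stepsOK_append (m := 4500) (n := 4500) (stepsOK_append (m := 1500) (n := 3000) steps_12 (stepsOK_append (m := 1500) (n := 1500) steps_13 steps_14)) (stepsOK_append (m := 1500) (n := 3000) steps_15 (stepsOK_append (m := 1500) (n := 1500) steps_16 steps_17))) (stepsOK_append (m := 4500) (n := 6000) (stepsOK_append (m := 1500) (n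 := 3000) steps_18 (stepsOK_append (m := 1500) (n := 1500) steps_19 steps_20)) (stepsOK_append (m := 3000) (n := 3000) (stepsOK_append (m := 1500) (n := 1500) steps_21 steps_22) (stepsOK_append (m := 1500) (n := 1500) steps_23 steps_24))))) (stepsOK_append (m := 19500) (n := 18939) (stepsOK_append (m := 9000) (n := 10500) (stepsOK_append (m := 4500) (n := 4500) (stepsOK_append (m := 1500) (n := 3000) steps_25 (stepsOK_append (m := 1500) (n := 1500) steps_26 steps_27)) (stepsOK_append (m := 1500) (n := 3000) steps_28 (stepsOK_append (m := 1500) (n := 1500) steps_29 steps_30))) (stepsOK_append (m := 4500) (n := 6000) (stepsOK_append (m := 1500) (n := 3000) steps_31 (stepsOK_append (m := 1500) (n := 1500) steps_32 steps_33)) (stepsOK_append (m := 3000) (n := 3000) (stepsOK_append (m := 1500) (n := 1500) steps_34 steps_35) (stepsOK_append (m := 1500) (n := 1500) steps_36 steps_37)))) (stepsOK_append (m := 9000) (n := 9939) (stepsOK_append (m := 4500) (n := 4500) (stepsOK_append (m := 1500) (n := 3000) steps_38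 (stepsOK_append (m := 1500) (n := 1500) steps_39 steps_40)) (stepsOK_append (m := 1500) (n := 3000) steps_41 (stepsOK_append (m := 1500) (n := 1500) steps_42 steps_43))) (stepsOK_append (m := 4500) (n := 5439) (stepsOK_append (m := 1500) (n := 3000) steps_44 (stepsOK_append (m := 1500) (n := 1500) steps_45 steps_46)) (stepsOK_append (m := 3000) (n := 2439) (stepsOK_append (m := 1500) (n := 1500) steps_47 steps_48) (stepsOK_append (m := 1500) (n := 939) steps_49 steps_50))))))
  closed := closed_0

end Cfsg.Lib.CosetEnum.Y5Full
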