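import Cfsg.Agent.Lib.CosetEnum.Defs

/-! Generated table data. -/

set_option autoImplicit false
set_option maxRecDepth 20000

namespace Cfsg.Lib.CosetEnum.Y5Full

/-- Table data. -/
def tabZ_0_0 : Tab :=
  (.leaf 0x209c00000000000000209bf0000000000000209be0000000000000209bd0000000000000209bc0000000000000209c10000000000000209bb0000000000000209ba0000000000000209b90000000000000209b80000000000000209b7)

/-- Table data. -/
def tabZ_0 : Tab :=
  tabZ_0_0

end Cfsg.Lib.CosetEnum.Y5Full
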