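import Cfsg.Agent.Lib.CosetEnum.Y5Full.TabF_Data0
import Cfsg.Agent.Lib.CosetEnum.Y5Full.TabF_Data1
import Cfsg.Agent.Lib.CosetEnum.Y5Full.TabC_Data0
import Cfsg.Agent.Lib.CosetEnum.Y5Full.TabC_Data1
import Cfsg.Agent.Lib.CosetEnum.Y5Full.TabC_Data2
import Cfsg.Agent.Lib.CosetEnum.Y5Full.TabC_Data3
import Cfsg.Agent.Lib.CosetEnum.Y5Full.TabC_Data4
import Cfsg.Agent.Lib.CosetEnum.Y5Full.TabC_Data5
import Cfsg.Agent.Lib.CosetEnum.Y5Full.TabC_Data6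
import Cfsg.Agent.Lib.CosetEnum.Y5Full.TabC_Data7
import Cfsg.Agent.Lib.CosetEnum.Y5Full.TabC_Data8
import Cfsg.Agent.Lib.CosetEnum.Y5Full.TabC_Data9
import Cfsg.Agent.Lib.CosetEnum.Y5Full.TabC_Data10
import Cfsg.Agent.Lib.CosetEnum.Y5Full.TabC_Data11
import Cfsg.Agent.Lib.CosetEnum.Y5Full.TabC_Data12
import Cfsg.Agent.Lib.CosetEnum.Y5Full.TabC_Data13
import Cfsg.Agent.Lib.CosetEnum.Y5Full.TabC_Data14
import Cfsg.Agent.Lib.CosetEnum.Y5Full.TabC_Data15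
import Cfsg.Agent.Lib.CosetEnum.Y5Full.TabC_Data16
import Cfsg.Agent.Lib.CosetEnum.Y5Full.TabC_Data17
import Cfsg.Agent.Lib.CosetEnum.Y5Full.TabC_Data18
import Cfsg.Agent.Lib.CosetEnum.Y5Full.TabC_Data19
import Cfsg.Agent.Lib.CosetEnum.Y5Full.TabC_Data20
import Cfsg.Agent.Lib.CosetEnum.Y5Full.TabC_Data21
import Cfsg.Agent.Lib.CosetEnum.Y5Full.TabC_Data22
import Cfsg.Agent.Lib.CosetEnum.Y5Full.TabC_Data23
import Cfsg.Agent.Lib.CosetEnum.Y5Full.TabC_Data24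
import Cfsg.Agent.Lib.CosetEnum.Y5Full.TabC_Data25
import Cfsg.Agent.Lib.CosetEnum.Y5Full.TabC_Data26
import Cfsg.Agent.Lib.CosetEnum.Y5Full.TabC_Data27
import Cfsg.Agent.Lib.CosetEnum.Y5Full.TabC_Data28
import Cfsg.Agent.Lib.CosetEnum.Y5Full.TabC_Data29
import Cfsg.Agent.Lib.CosetEnum.Y5Full.TabC_Data30
import Cfsg.Agent.Lib.CosetEnum.Y5Full.TabC_Data31
import Cfsg.Agent.Lib.CosetEnum.Y5Full.TabC_Data32
import Cfsg.Agent.Lib.CosetEnum.Y5Full.TabC_Data33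
import Cfsg.Agent.Lib.CosetEnum.Y5Full.TabC_Data34
import Cfsg.Agent.Lib.CosetEnum.Y5Full.TabC_Data35
import Cfsg.Agent.Lib.CosetEnum.Y5Full.TabC_Data36
import Cfsg.Agent.Lib.CosetEnum.Y5Full.TabC_Data37
import Cfsg.Agent.Lib.CosetEnum.Y5Full.TabZ_Data0
import Cfsg.Agent.Lib.CosetEnum.Y5Full.TabP_Data0

/-! Generated certificate. -/

set_option autoImplicit false
set_option maxRecDepth 20000

namespace Cfsg.Lib.CosetEnum.Y5Full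

/-- Table. -/
def tabF : Tab :=
  (.node 2048 tabF_0 tabF_1)

/-- Table. -/
def tabC : Tab :=
  (.node 38912 (.node 18432 (.node 8192 (.node 4096 (.node 2048 tabC_0 tabC_1) (.node 2048 tabC_2 tabC_3)) (.node 4096 (.node 2048 tabC_4 tabC_5) (.node 2048 tabC_6 (.node 2048 tabC_7 tabC_8)))) (.node 10240 (.node 4096 (.node 2048 tabC_9 tabC_10) (.node 2048 tabC_11 (.node 2048 tabC_12 tabC_13))) (.node 4096 (.node 2048 tabC_14 tabC_15) (.node 2048 tabC_16 (.node 2048 tabC_17 tabC_18))))) (.node 18432 (.node 8192 (.node 4096 (.node 2048 tabC_19 tabC_20) (.node 2048 tabC_21 tabC_22)) (.node 4096 (.node 2048 tabC_23 tabC_24) (.node 2048 tabC_25 (.node 2048 tabC_26 tabC_27)))) (.node 10240 (.node 4096 (.node 2048 tabC_28 tabC_29) (.node 2048 tabC_30 (.node 2048 tabC_31 tabC_32))) (.node 4096 (.node 2048 tabC_33 tabC_34) (.node 2048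 tabC_35 (.node 2048 tabC_36 tabC_37))))))

/-- Table. -/
def tabZ : Tab :=
  tabZ_0

/-- Table. -/
def tabP : Tab :=
  tabP_0

/-- The shifts in use. -/
def relWords : List (List Nat) :=
  [[0, 0],
    [1, 1],
    [2, 2],
    [3, 3],
    [4, 4],
    [5, 5],
    [6, 6],
    [7, 7],
    [8, 8],
    [9, 9],
    [10, 10],
    [0, 1, 0, 1, 0, 1],
    [0, 2, 0, 2],
    [0, 3, 0, 3],
    [0, 4, 0, 4],
    [0, 5, 0, 5],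
    [0, 6, 0, 6, 0, 6],
    [0, 7, 0, 7],
    [0, 8, 0, 8],
    [0, 9, 0, 9, 0, 9],
    [0, 10, 0, 10],
    [1, 2, 1, 2, 1, 2],
    [1, 3, 1, 3],
    [1, 4, 1, 4],
    [1, 5, 1, 5],
    [1, 6, 1, 6],
    [1, 7, 1, 7],
    [1, 8, 1, 8],
    [1, 9, 1, 9],
    [1, 10, 1, 10],
    [2, 3, 2, 3, 2, 3],
    [2, 4, 2, 4],
    [2, 5, 2, 5],
    [2, 6, 2, 6],
    [2, 7, 2, 7],
    [2, 8, 2, 8],
    [2, 9, 2, 9],
    [2, 10, 2, 10],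
    [3, 4, 3, 4, 3, 4],
    [3, 5, 3, 5],
    [3, 6, 3, 6],
    [3, 7, 3, 7],
    [3, 8, 3, 8],
    [3, 9, 3, 9],
    [3, 10, 3, 10],
    [4, 5, 4, 5, 4, 5],
    [4, 6, 4, 6],
    [4, 7, 4, 7],
    [4, 8, 4, 8],
    [4, 9, 4, 9],
    [4, 10, 4, 10],
    [5, 6, 5, 6],
    [5, 7, 5, 7],
    [5, 8, 5, 8],
    [5, 9, 5, 9],
    [5, 10, 5, 10],
    [6, 7, 6, 7, 6, 7],
    [6, 8, 6, 8],
    [6, 9, 6, 9],
    [6, 10, 6, 10],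
    [7, 8, 7, 8, 7, 8],
    [7, 9, 7, 9],
    [7, 10, 7, 10],
    [8, 9, 8, 9],
    [8, 10, 8, 10],
    [9, 10, 9, 10, 9, 10],
    [0, 6, 7, 0, 1, 2, 0, 9, 10, 0, 6, 7, 0, 1, 2, 0, 9, 10, 0, 6, 7, 0, 1, 2, 0, 9, 10, 0, 6, 7, 0, 1, 2, 0, 9, 10, 0, 6, 7, 0, 1, 2, 0, 9, 10, 0, 6, 7, 0, 1, 2, 0, 9, 10, 0, 6, 7, 0, 1, 2, 0, 9, 10, 0, 6, 7, 0, 1, 2, 0, 9, 10, 0, 6, 7, 0, 1, 2, 0, 9, 10, 0, 6, 7, 0, 1, 2, 0, 9, 10],
    [6, 4, 6, 4],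
    [7, 4, 7, 4],
    [8, 4, 8, 4],
    [9, 4, 9, 4],
    [10, 4, 10, 4],
    [5, 2, 5, 2],
    [6, 2, 6, 2],
    [7, 2, 7, 2],
    [8, 2, 8, 2],
    [9, 2, 9, 2],
    [10, 2, 10, 2],
    [4, 1, 4, 1],
    [3, 0, 3, 0],
    [3, 1, 3, 1],
    [5, 0, 5, 0],
    [5, 1, 5, 1],
    [7, 0, 7, 0],
    [7, 6, 7, 6, 7, 6],
    [6, 0, 6, 0, 6, 0],
    [9, 1, 9, 1],
    [8, 0, 8, 0],
    [8, 6, 8, 6],
    [8, 1, 8, 1],
    [9, 0, 9, 0, 9, 0],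
    [6, 1, 6, 1],
    [1, 0, 1, 0, 1, 0],
    [10, 0, 10, 0],
    [10, 6, 10, 6],
    [10, 9, 10, 9, 10, 9],
    [9, 6, 9, 6],
    [9, 7, 9, 7],
    [2, 0, 2, 0],
    [2, 1, 2, 1, 2, 1],
    [7, 1, 7, 1],
    [4, 0, 4, 0],
    [4, 2, 4, 2],
    [10, 3, 10, 3],
    [10, 5, 10, 5],
    [10, 8, 10, 8],
    [10, 1, 10, 1],
    [10, 7, 10, 7],
    [7, 3, 7, 3],
    [7, 5, 7, 5],
    [8, 7, 8, 7, 8, 7],
    [6, 3, 6, 3],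
    [9, 3, 9, 3],
    [8, 3, 8, 3],
    [3, 2, 3, 2, 3, 2],
    [8, 5, 8, 5],
    [6, 5, 6, 5],
    [9, 8, 9, 8],
    [9, 5, 9, 5],
    [4, 3, 4, 3, 4, 3],
    [5, 3, 5, 3],
    [5, 4, 5, 4, 5, 4]]

/-- Subgroup words. -/
def subWords : List (List Nat) :=
  [[0],
    [1],
    [2],
    [3],
    [4],
    [6],
    [7],
    [8],
    [9],
    [10]]

/-- The certificate. -/
def step : StepCert :=
  ⟨relWords, subWords, [0, 1, 2, 3, 4, 5, 6, 7, 8, 9, 10], tabF, tabC, tabZ, tabP, 57631, 75939, 1, 11⟩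

end Cfsg.Lib.CosetEnum.Y5Full
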